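import Groth.Agent.AlgSpLib.ReducedSmooth
import Mathlib

universe u

open AlgebraicGeometry

theorem isReduced_smooth (A S : Type u) [CommRing A] [_root_.IsReduced A] [CommRing S] [Algebra A S]
    [Algebra.Smooth A S] : _root_.IsReduced S := by
  have hs : AlgebraicGeometry.Smooth (Spec.map (CommRingCat.ofHom (algebraMap A S))) := by
    rw [HasRingHomProperty.Spec_iff (P := @AlgebraicGeometry.Smooth)]
    exact RingHom.smooth_algebraMap.mpr inferInstance
  have := AlgSpLib.isReduced_of_smooth (Spec.map (CommRingCat.ofHom (algebraMap A S)))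
  exact (affine_isReduced_iff (CommRingCat.of S)).mp this

open TensorProduct in
/-- If `B` is smooth over `R`, its quotient by `q` is reduced when `q` maps to zero in a field `k`
over which the reduction is defined. -/
theorem isReduced_quotient_of_smooth {R : Type*} [CommRing R] (B : Type u) [CommRing B] [Algebra R B]
    [Algebra.Smooth R B] (k : Type u) [Field k] [Algebra R k]
    (hsurj : Function.Surjective (algebraMap R k)) :
    _root_.IsReduced (B ⧸ (RingHom.ker (algebraMap R k)).map (algebraMap R B)) := by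
  have : _root_.IsReduced (k ⊗[R] B) := isReduced_smooth k (k ⊗[R] B)
  let J := (RingHom.ker (algebraMap R k)).map (algebraMap R B)
  let ι : B →+* k ⊗[R] B := (Algebra.TensorProduct.includeRight (R := R) (A := k) (B := B)).toRingHom
  have hJ : ∀ x ∈ J, ι x = 0 := by
    intro x hx
    have : J ≤ RingHom.ker ι := Ideal.map_le_iff_le_comap.mpr fun r hr => by
      show ι (algebraMap R B r) = 0
      simp only [ι, AlgHom.toRingHom_eq_coe, RingHom.coe_coe, AlgHom.commutes]
      rw [IsScalarTower.algebraMap_apply R k (k ⊗[R] B), RingHom.mem_ker.mp hr, map_zero]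
    exact this hx
  refine isReduced_of_injective (Ideal.Quotient.lift J ι hJ)
    (RingHom.lift_injective_of_ker_le_ideal _ _ fun x hx => ?_)
  let e : (R ⧸ RingHom.ker (algebraMap R k)) ≃ₐ[R] k :=
    Ideal.quotientKerAlgEquivOfSurjective (f := Algebra.ofId R k) hsurj
  let f : k →ₐ[R] B ⧸ J := (Ideal.Quotient.liftₐ _ (Algebra.ofId R (B ⧸ J)) fun r hr => by
    show algebraMap R (B ⧸ J) r = 0
    rw [IsScalarTower.algebraMap_apply R B (B ⧸ J), Ideal.Quotient.algebraMap_eq,
      Ideal.Quotient.eq_zero_iff_mem]
    exact Ideal.mem_map_of_mem _ hr).comp e.symm.toAlgHom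
  let back := Algebra.TensorProduct.lift f (Ideal.Quotient.mkₐ R J) (fun _ _ => Commute.all _ _)
  have hb : back (ι x) = Ideal.Quotient.mk J x := by simp [back, ι]
  rw [RingHom.mem_ker.mp hx, map_zero] at hb
  exact Ideal.Quotient.eq_zero_iff_mem.mp hb.symm

theorem formallySmooth_int_of_charZero (L : Type u) [Field L] [CharZero L] [Algebra.EssFiniteType ℤ L] : Algebra.FormallySmooth ℤ L := by
  have h : IsScalarTower ℤ ℚ L := ⟨fun n q x => by
      rw [Algebra.smul_def, zsmul_eq_mul, zsmul_eq_mul, map_mul, map_intCast, Algebra.smul_def, mul_assoc]⟩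
  have : Algebra.EssFiniteType ℚ L := Algebra.EssFiniteType.of_comp ℤ ℚ L
  have : Algebra.FormallySmooth ℚ L := inferInstance
  have : Algebra.FormallyEtale ℤ ℚ := Algebra.FormallyEtale.of_isLocalization (nonZeroDivisors ℤ)
  exact .comp ℤ ℚ L
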